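import Cfsg.Agent.CosetCert.Pack

/-! Generated: the representatives. -/

set_option Elab.async false

namespace Cfsg.Agent.CosetCert.Y521Index120

def repStore : Store := (.leaf 0xa30000000000a20000000000a10000000000a000000000009e00000000009d00000000009c00000000009800000000009700000000009300000000008400000000008300000000008200000000008100000000007e00000000007d00000000007c00000000007900000000007800000000007500000000007200000000006a00000000006800000000006700000000006600000000006500000000006300000000006200000000006100000000005f00000000005e00000000005c00000000005b00000000005900000000005600000000005400000000005300000000005200000000005100000000005000000000004f00000000004e00000000004d00000000004c00000000004b00000000004a00000000004900000000004800000000004700000000004600000000004500000000004400000000004300000000004200000000004100000000004000000000003f00000000003e00000000003d00000000003c00000000003b00000000003a00000000003900000000003800000000003700000000003600000000003500000000003400000000003300000000003200000000003100000000003000000000002f00000000002e00000000002d00000000002c00000000002b00000000002a00000000002900000000002800000000002700000000002600000000002500000000002400000000002300000000002200000000002100000000002000000000001f00000000001e00000000001d00000000001c00000000001b00000000001a00000000001900000000001800000000001700000000001600000000001500000000001400000000001300000000001200000000001100000000001000000000000f00000000000e00000000000d00000000000c00000000000b00000000000a000000000009000000000008000000000007000000000006000000000005000000000004000000000003000000000002000000000001000000000000)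

end Cfsg.Agent.CosetCert.Y521Index120
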