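import Cfsg.Agent.CosetCert.Pack

/-! Generated: the tree. -/

set_option Elab.async false

namespace Cfsg.Agent.CosetCert.Y521Index120

def treeStore : Store := (.leaf 0xde8000000000de4000000000dc8000000000d45000000000d08000000000d04000000000ce5000000000cc8000000000ca5000000000c85000000000c08000000000c04000000000be5000000000bc6000000000ba8000000000b85000000000b66000000000b45000000000b26000000000ae6000000000ac6000000000a86000000000a48000000000a25000000000a06000000000a010000000009c50000000009a60000000009a20000000009460000000009430000000009060000000009040000000008c50000000008680000000008470000000008210000000008050000000007e60000000007e20000000007c20000000007860000000007830000000007630000000007460000000007440000000007240000000007050000000006e50000000006c80000000006a50000000006880000000006870000000006850000000006620000000006260000000006230000000006030000000005e60000000005e40000000005c40000000005a50000000005850000000005680000000005280000000005270000000005080000000005060000000004e30000000004c60000000004c40000000004a40000000004850000000004650000000004480000000004080000000004070000000003e80000000003e60000000003e40000000003c40000000003a50000000003850000000003680000000003280000000003270000000003080000000003060000000002e50000000002c50000000002a80000000002680000000002670000000002480000000002460000000002250000000002230000000001e80000000001e70000000001c80000000001c60000000001a50000000001840000000001680000000001660000000001450000000001240000000001220000000001050000000000e40000000000c30000000000a4000000000083000000000081000000000063000000000042000000000022000000000020000000000001000000000000)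

end Cfsg.Agent.CosetCert.Y521Index120
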